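/-
Claim (N) of S2858, package NEA (helper45's cut): the induction step.
`subQuot` applied to a pair `L₁, L₂` with `LAmal L_i S D_i` and a swap `t`.
-/
import Mathlib
import Cfsg.Agent.Lib.Helper45.S3Amal.NDefs
import Cfsg.Agent.Lib.Helper83.KS12.S3Quot
import Cfsg.Agent.Lib.Helper84.PCoreBasic
import Cfsg.Agent.Lib.Helper59.Amal.SubQuot

set_option autoImplicit false

namespace Cfsg.Agent.Lib.Helper59.S3Amal

open Cfsg.Agent.Lib.Helper71.Sym Cfsg.Agent.Lib.Helper45.S3Amal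

universe u

section

variable {G : Type u} [Group G]

theorem card_mul_relIndex_le {H K : Subgroup G} (h : H ≤ K) :
    Nat.card ↥H * H.relIndex K = Nat.card ↥K := by
  have := Subgroup.relIndex_mul_relIndex ⊥ H K bot_le h
  rwa [Subgroup.relIndex_bot_left, Subgroup.relIndex_bot_left] at this

theorem lamal_finS {L S D : Subgroup G} (hA : LAmal L S D) : Finite ↥S :=
  have := hA.fin
  Finite.of_injective _ (Subgroup.inclusion_injective hA.hTH)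

theorem lamal_relIndex_SL {L S D : Subgroup G} (hA : LAmal L S D) : S.relIndex L = 3 := by
  have := lamal_finS hA
  have hpos : 0 < Nat.card ↥S := Nat.card_pos
  have h1 := card_mul_relIndex_le hA.hTH
  rw [hA.hHT] at h1
  exact Nat.eq_of_mul_eq_mul_left hpos (by rw [h1, mul_comm])

theorem lamal_relIndex_DL {L S D : Subgroup G} (hA : LAmal L S D) : D.relIndex L = 6 := by
  have := lamal_finS hA
  have : Finite ↥D := Finite.of_injective _ (Subgroup.inclusion_injective hA.hQT)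
  have hpos : 0 < Nat.card ↥D := Nat.card_pos
  have h1 := card_mul_relIndex_le (hA.hQT.trans hA.hTH)
  rw [hA.hHT, hA.hTQ] at h1
  exact Nat.eq_of_mul_eq_mul_left hpos (by rw [h1]; ring)

theorem lamal_syl {L S D : Subgroup G} (hA : LAmal L S D) :
    ∃ Syl : Sylow 2 ↥L, (Syl : Subgroup ↥L) = S.subgroupOf L := by
  have : Fact (Nat.Prime 2) := ⟨Nat.prime_two⟩
  have hp : IsPGroup 2 ↥(S.subgroupOf L) :=
    hA.hT2.of_equiv (Subgroup.subgroupOfEquivOfLe hA.hTH).symm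
  have hidx : (S.subgroupOf L).index = 3 := lamal_relIndex_SL hA
  exact ⟨hp.toSylow (by rw [hidx]; norm_num), rfl⟩

theorem lamal_pCore {L S D : Subgroup G} (hA : LAmal L S D) (hZ : ZF L S D) :
    Cfsg.pCore 2 ↥L = D.subgroupOf L := by
  have : Fact (Nat.Prime 2) := ⟨Nat.prime_two⟩
  obtain ⟨Syl, hSyl⟩ := lamal_syl hA
  have hDn : (D.subgroupOf L).Normal := by
    constructor
    intro d hd g
    rw [Subgroup.mem_subgroupOf] at hd ⊢
    exact hA.hQn g.1 g.2 d.1 hd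
  have hDp : IsPGroup 2 ↥(D.subgroupOf L) :=
    (hA.hT2.to_le hA.hQT).of_equiv (Subgroup.subgroupOfEquivOfLe (hA.hQT.trans hA.hTH)).symm
  have hN : (Cfsg.pCore 2 ↥L).Normal := Subgroup.sSup_normal _ (fun _ h => h.1)
  apply le_antisymm
  · intro x hx
    rw [Subgroup.mem_subgroupOf]
    have hxS : (x : G) ∈ S := by
      have h1 := Cfsg.Agent.Lib.Helper84.pCore_le_sylow 2 Syl hx
      rw [hSyl] at h1
      exact Subgroup.mem_subgroupOf.mp h1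
    obtain ⟨h, hhL, s, hs, hhs⟩ := hA.hTn
    have hhS : h ∉ S := fun hh => hhs (S.mul_mem (S.mul_mem hh hs) (S.inv_mem hh))
    have hconj : (⟨h, hhL⟩ : ↥L) * x * (⟨h, hhL⟩ : ↥L)⁻¹ ∈ Cfsg.pCore 2 ↥L :=
      hN.conj_mem x hx _
    have hconjS : h * (x : G) * h⁻¹ ∈ S := by
      have h1 := Cfsg.Agent.Lib.Helper84.pCore_le_sylow 2 Syl hconj
      rw [hSyl] at h1
      exact Subgroup.mem_subgroupOf.mp h1
    exact hZ.inter h hhL hhS x hxS hconjS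
  · exact Cfsg.Agent.Lib.Helper84.le_pCore hDn hDp

theorem lamal_pCoreOf {L S D : Subgroup G} (hA : LAmal L S D) (hZ : ZF L S D) :
    Cfsg.pCoreOf 2 L = D := by
  unfold Cfsg.pCoreOf
  rw [lamal_pCore hA hZ]
  exact Subgroup.map_subgroupOf_eq_of_le (hA.hQT.trans hA.hTH)

theorem lamal_quot {L S D : Subgroup G} (hA : LAmal L S D) (hZ : ZF L S D) :
    Nonempty (↥L ⧸ Cfsg.pCore 2 ↥L ≃* Equiv.Perm (Fin 3)) := by
  have hN : (Cfsg.pCore 2 ↥L).Normal := Subgroup.sSup_normal _ (fun _ h => h.1)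
  have hcore := lamal_pCore hA hZ
  apply Cfsg.Agent.Lib.Helper83.KS12.nonempty_mulEquiv_perm_three (Cfsg.pCore 2 ↥L)
  · rw [hcore]
    exact lamal_relIndex_DL hA
  · intro hle
    obtain ⟨h, hhL, s, hs, hhs⟩ := hA.hTn
    apply hhs
    have h1 := hle (Subgroup.commutator_mem_commutator (Subgroup.mem_top (⟨h, hhL⟩ : ↥L))
      (Subgroup.mem_top (⟨s, hA.hTH hs⟩ : ↥L)))
    rw [hcore, Subgroup.mem_subgroupOf, commutatorElement_def] at h1
    have h2 : h * s * h⁻¹ * s⁻¹ ∈ S := hA.hQT (by simpa using h1)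
    have h3 := S.mul_mem h2 hs
    simpa using h3

theorem nz_cj' {H N : Subgroup G} (c : G) (hN : Nz H N) : Nz (cj c H) (cj c N) := by
  intro h hh k hk
  rw [mem_cj] at hh hk ⊢
  have := hN _ hh _ hk
  have e : c⁻¹ * (h * k * h⁻¹) * c = c⁻¹ * h * c * (c⁻¹ * k * c) * (c⁻¹ * h * c)⁻¹ := by group
  rw [e]
  exact this

/-- The swap lemma: the non-central involution of `S/K`. -/
theorem swap_hZ (L L' S K : Subgroup G) (t : G) (hfin : Finite ↥S) (hS2 : IsPGroup 2 ↥S)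
    (hSL : S ≤ L) (hKS : K ≤ S) (hK1 : Nz L K) (hK2 : Nz L' K)
    (hKmax : ∀ N : Subgroup G, N ≤ S → Nz L N → Nz L' N → N ≤ K)
    (ht1 : cj t L = L') (ht2 : cj t L' = L) (htS : cj t S = S)
    (hSn : ∃ h ∈ L, ∃ s ∈ S, h * s * h⁻¹ ∉ S) :
    ∃ z ∈ S, z * z ∈ K ∧ (∀ s ∈ S, z * s * z⁻¹ * s⁻¹ ∈ K) ∧
      ∃ g ∈ L, g * z * g⁻¹ * z⁻¹ ∉ K := by
  classical
  have : Fact (Nat.Prime 2) := ⟨Nat.prime_two⟩
  have hKne : ¬ S ≤ K := by
    intro hle
    have hEq : K = S := le_antisymm hKS hle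
    obtain ⟨h, hh, s, hs, hhs⟩ := hSn
    rw [hEq] at hK1
    exact hhs (hK1 h hh s hs)
  have hfinK : Finite ↥K := Finite.of_injective _ (Subgroup.inclusion_injective hKS)
  have htK : cj t K = K := by
    have hle : cj t K ≤ K := by
      apply hKmax
      · rw [← htS]; exact cj_mono hKS t
      · have h1 := nz_cj' t hK2
        rwa [ht2] at h1
      · have h1 := nz_cj' t hK1
        rwa [ht1] at h1
    exact Subgroup.eq_of_le_of_card_ge hle (by rw [card_cj])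
  have hiK : ∀ a, a ∈ K ↔ t⁻¹ * a * t ∈ K := fun a => by rw [← mem_cj, htK]
  have hiS : ∀ a, a ∈ S ↔ t⁻¹ * a * t ∈ S := fun a => by rw [← mem_cj, htS]
  have hiK' : ∀ a, a ∈ K ↔ t * a * t⁻¹ ∈ K := fun a => by
    rw [hiK (t * a * t⁻¹)]
    have e : t⁻¹ * (t * a * t⁻¹) * t = a := by group
    rw [e]
  have hiS' : ∀ a, a ∈ S ↔ t * a * t⁻¹ ∈ S := fun a => by
    rw [hiS (t * a * t⁻¹)]
    have e : t⁻¹ * (t * a * t⁻¹) * t = a := by group
    rw [e]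
  have hKn : (K.subgroupOf S).Normal := by
    constructor
    intro k hk s
    rw [Subgroup.mem_subgroupOf] at hk ⊢
    exact hK1 s.1 (hSL s.2) k.1 hk
  have hQ2 : IsPGroup 2 (↥S ⧸ K.subgroupOf S) := hS2.to_quotient _
  have hQnt : Nontrivial (↥S ⧸ K.subgroupOf S) := by
    obtain ⟨s, hs, hsK⟩ := SetLike.not_le_iff_exists.mp hKne
    refine ⟨⟨QuotientGroup.mk ⟨s, hs⟩, 1, ?_⟩⟩
    intro h
    rw [QuotientGroup.eq_one_iff] at h
    exact hsK (Subgroup.mem_subgroupOf.mp h)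
  have hcen := hQ2.bot_lt_center
  obtain ⟨c, hc, hc1⟩ := (SetLike.lt_iff_le_and_exists.mp hcen).2
  have hc1' : c ≠ 1 := fun h => hc1 (by rw [h]; exact Subgroup.one_mem _)
  have hex : ∃ k, c ^ 2 ^ k = 1 := hQ2 c
  obtain ⟨k₀, hk₀, hmin⟩ : ∃ k₀, c ^ 2 ^ k₀ = 1 ∧ ∀ j < k₀, c ^ 2 ^ j ≠ 1 :=
    ⟨Nat.find hex, Nat.find_spec hex, fun j hj => Nat.find_min hex hj⟩
  have hk₀pos : k₀ ≠ 0 := by
    intro h0
    rw [h0] at hk₀
    exact hc1' (by simpa using hk₀)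
  obtain ⟨j, hj⟩ := Nat.exists_eq_succ_of_ne_zero hk₀pos
  obtain ⟨c', hc'def⟩ : ∃ c', c' = c ^ 2 ^ j := ⟨_, rfl⟩
  have hc'1 : c' ≠ 1 := by
    rw [hc'def]
    exact hmin j (by omega)
  have hc'2 : c' * c' = 1 := by
    rw [hc'def, ← pow_two, ← pow_mul, ← pow_succ, ← Nat.succ_eq_add_one, ← hj]
    exact hk₀
  have hc'cen : c' ∈ Subgroup.center (↥S ⧸ K.subgroupOf S) := by
    rw [hc'def]
    exact Subgroup.pow_mem _ hc _
  obtain ⟨⟨z, hzS⟩, hz⟩ := QuotientGroup.mk_surjective c'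
  have hzK : z ∉ K := by
    intro h
    apply hc'1
    rw [← hz, QuotientGroup.eq_one_iff]
    exact Subgroup.mem_subgroupOf.mpr h
  have hzz : z * z ∈ K := by
    have h1 : (((⟨z, hzS⟩ : ↥S) * ⟨z, hzS⟩ : ↥S) : ↥S ⧸ K.subgroupOf S) = 1 := by
      rw [QuotientGroup.mk_mul, hz, hc'2]
    rw [QuotientGroup.eq_one_iff] at h1
    exact Subgroup.mem_subgroupOf.mp h1
  have hzc : ∀ s ∈ S, z * s * z⁻¹ * s⁻¹ ∈ K := by
    intro s hs
    have hcomm := Subgroup.mem_center_iff.mp hc'cen (QuotientGroup.mk ⟨s, hs⟩)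
    have h1 : (((⟨z, hzS⟩ : ↥S) * ⟨s, hs⟩ * (⟨z, hzS⟩ : ↥S)⁻¹ * (⟨s, hs⟩ : ↥S)⁻¹ : ↥S) :
        ↥S ⧸ K.subgroupOf S) = 1 := by
      simp only [QuotientGroup.mk_mul, QuotientGroup.mk_inv, hz]
      rw [← hcomm]
      group
    rw [QuotientGroup.eq_one_iff] at h1
    exact Subgroup.mem_subgroupOf.mp h1
  by_contra hcon
  have hall : ∀ z ∈ S, z * z ∈ K → (∀ s ∈ S, z * s * z⁻¹ * s⁻¹ ∈ K) →
      ∀ g ∈ L, g * z * g⁻¹ * z⁻¹ ∈ K := by
    intro z' hz'S h1 h2 g hg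
    by_contra h3
    exact hcon ⟨z', hz'S, h1, h2, g, hg, h3⟩
  let Zs : Subgroup G :=
    { carrier := {a | a ∈ S ∧ a * a ∈ K ∧ ∀ s ∈ S, a * s * a⁻¹ * s⁻¹ ∈ K}
      mul_mem' := by
        rintro a b ⟨haS, ha2, hac⟩ ⟨hbS, hb2, hbc⟩
        refine ⟨S.mul_mem haS hbS, ?_, fun s hs => ?_⟩
        · have h1 := hK1 a (hSL haS) _ (hbc a haS)
          have e : a * b * (a * b) = (a * (b * a * b⁻¹ * a⁻¹) * a⁻¹) * (a * a) * (b * b) := by group
          rw [e]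
          exact K.mul_mem (K.mul_mem h1 ha2) hb2
        · have h1 := hK1 a (hSL haS) _ (hbc s hs)
          have e : a * b * s * (a * b)⁻¹ * s⁻¹ =
              (a * (b * s * b⁻¹ * s⁻¹) * a⁻¹) * (a * s * a⁻¹ * s⁻¹) := by group
          rw [e]
          exact K.mul_mem h1 (hac s hs)
      one_mem' := ⟨S.one_mem, by simp, fun s hs => by simp⟩
      inv_mem' := by
        rintro a ⟨haS, ha2, hac⟩
        refine ⟨S.inv_mem haS, ?_, fun s hs => ?_⟩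
        · have e : a⁻¹ * a⁻¹ = (a * a)⁻¹ := by group
          rw [e]
          exact K.inv_mem ha2
        · have h1 := hK1 a⁻¹ (L.inv_mem (hSL haS)) _ (K.inv_mem (hac s hs))
          have e : a⁻¹ * s * a⁻¹⁻¹ * s⁻¹ = a⁻¹ * (a * s * a⁻¹ * s⁻¹)⁻¹ * a⁻¹⁻¹ := by group
          rw [e]
          exact h1 }
  have hZsS : Zs ≤ S := fun a ha => ha.1
  have hKZs : K ≤ Zs := by
    intro k hk
    refine ⟨hKS hk, K.mul_mem hk hk, fun s hs => ?_⟩
    have h1 := hK1 s (hSL hs) _ (K.inv_mem hk)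
    have e : k * s * k⁻¹ * s⁻¹ = k * (s * k⁻¹ * s⁻¹) := by group
    rw [e]
    exact K.mul_mem hk h1
  have hZs1 : Nz L Zs := by
    intro g hg a ha
    have h1 := hall a ha.1 ha.2.1 ha.2.2 g hg
    have e : g * a * g⁻¹ = (g * a * g⁻¹ * a⁻¹) * a := by group
    rw [e]
    exact Zs.mul_mem (hKZs h1) ha
  have hinv : ∀ u : G, (∀ a, a ∈ K ↔ u * a * u⁻¹ ∈ K) → (∀ a, a ∈ S ↔ u * a * u⁻¹ ∈ S) →
      ∀ a ∈ Zs, u * a * u⁻¹ ∈ Zs := by
    intro u huK huS a ha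
    refine ⟨(huS a).mp ha.1, ?_, fun s hs => ?_⟩
    · have e : u * a * u⁻¹ * (u * a * u⁻¹) = u * (a * a) * u⁻¹ := by group
      rw [e]
      exact (huK _).mp ha.2.1
    · have hs' : u⁻¹ * s * u ∈ S := by
        rw [huS]
        have e : u * (u⁻¹ * s * u) * u⁻¹ = s := by group
        rw [e]
        exact hs
      have h1 := ha.2.2 _ hs'
      have e : u * a * u⁻¹ * s * (u * a * u⁻¹)⁻¹ * s⁻¹ =
          u * (a * (u⁻¹ * s * u) * a⁻¹ * (u⁻¹ * s * u)⁻¹) * u⁻¹ := by group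
      rw [e]
      exact (huK _).mp h1
  have hZs2 : Nz L' Zs := by
    intro g hg a ha
    rw [← ht1, mem_cj] at hg
    have h1 : t⁻¹ * a * t ∈ Zs := by
      have := hinv t⁻¹ (fun b => by rw [inv_inv]; exact hiK b) (fun b => by rw [inv_inv]; exact hiS b)
        a ha
      rwa [inv_inv] at this
    have h2 := hZs1 _ hg _ h1
    have h3 := hinv t hiK' hiS' _ h2
    have e : t * (t⁻¹ * g * t * (t⁻¹ * a * t) * (t⁻¹ * g * t)⁻¹) * t⁻¹ = g * a * g⁻¹ := by group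
    rwa [e] at h3
  exact hzK (hKmax Zs hZsS hZs1 hZs2 ⟨hzS, hzz, hzc⟩)

end

/-- **Package NEA.** -/
theorem pkgNEA : PkgNEA.{u} := by
  intro n IH G _ L₁ L₂ S D₁ D₂ K hA₁ hA₂ hZ₁ hZ₂ hne hn hswap hKS hK₁ hK₂ hKmax hC₁ hC₂
  have hf₁ : Finite ↥L₁ := hA₁.fin
  have hf₂ : Finite ↥L₂ := hA₂.fin
  have hfS : Finite ↥S := lamal_finS hA₁
  have hcore₁ := lamal_pCoreOf hA₁ hZ₁
  have hcore₂ := lamal_pCoreOf hA₂ hZ₂
  have hcardLL' : Nat.card ↥L₁ = Nat.card ↥L₂ := by rw [hA₁.hHT, hA₂.hHT]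
  have hS : S = L₁ ⊓ L₂ := by
    apply le_antisymm (le_inf hA₁.hTH hA₂.hTH)
    rcases hZ₁.maxT (L₁ ⊓ L₂) (le_inf hA₁.hTH hA₂.hTH) inf_le_left with h | h
    · exact h.le
    · exfalso
      have hLL' : L₁ ≤ L₂ := by
        rw [← h]
        exact inf_le_right
      have hEq : L₁ = L₂ := Subgroup.eq_of_le_of_card_ge hLL' hcardLL'.symm.le
      apply hne
      rw [← hcore₁, ← hcore₂, hEq]
  obtain ⟨t, htS, ht1, ht2⟩ := hswap
  have hZ1 := swap_hZ L₁ L₂ S K t hfS hA₁.hT2 hA₁.hTH hKS hK₁ hK₂ hKmax ht1 ht2 htS hA₁.hTn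
  have hZ2 := swap_hZ L₂ L₁ S K t hfS hA₁.hT2 hA₂.hTH hKS hK₂ hK₁
    (fun N h1 h2 h3 => hKmax N h1 h3 h2) ht2 ht1 htS hA₂.hTn
  have hmain := Cfsg.Agent.Lib.Helper59.Amal.subQuot n IH L₁ L₂ S K hS hn
    (by
      rintro P (rfl | rfl)
      · exact lamal_syl hA₁
      · exact lamal_syl hA₂)
    (by
      rintro P (rfl | rfl)
      · exact lamal_quot hA₁ hZ₁
      · exact lamal_quot hA₂ hZ₂)
    hKS (Cfsg.Agent.Lib.Helper59.Amal.le_normalizer_of_conj_mem hK₁)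
    (Cfsg.Agent.Lib.Helper59.Amal.le_normalizer_of_conj_mem hK₂)
    (by
      intro N hNS hN1 hN2
      exact hKmax N hNS
        (fun h hh n hn => (Subgroup.mem_normalizer_iff.mp (hN1 hh) n).mp hn)
        (fun h hh n hn => (Subgroup.mem_normalizer_iff.mp (hN2 hh) n).mp hn))
    (by
      rintro P (rfl | rfl)
      · rw [hcore₁]
        exact hC₁
      · rw [hcore₂]
        exact hC₂)
    (by
      rintro P (rfl | rfl)
      · exact hZ1
      · exact hZ2)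
  have m1 : L₁ ∈ ({L₁, L₂} : Set (Subgroup G)) := Set.mem_insert _ _
  have m2 : L₂ ∈ ({L₁, L₂} : Set (Subgroup G)) := Set.mem_insert_of_mem _ rfl
  have hel1 := hmain L₁ m1
  have hel2 := hmain L₂ m2
  rw [hcore₁] at hel1
  rw [hcore₂] at hel2
  exact ⟨hel1, hel2⟩

end Cfsg.Agent.Lib.Helper59.S3Amal
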